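import Cfsg.Agent.H985.UT.Lie
import Cfsg.Agent.S2653
import Cfsg.Agent.S1074

/-!
# S2196, part (B2): alternating groups, the Tits group (helper985)
-/

set_option autoImplicit false
set_option linter.unusedSectionVars false

universe u v

namespace Cfsg.Agent.H985.UT

open Cfsg Cfsg.Geo Matrix Cfsg.Agent.H915.LD

variable {F : Type u} [Field F] [Fintype F] {n q : ℕ}

theorem HB.card_aut {P : Subgroup (GL (Fin n) F)} (h : HB q n P) :
    Nat.card (Cfsg.Out (Soc P)) * Nat.card (Soc P) = Nat.card (MulAut (Soc P)) := by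
  have hs : IsSimpleGroup (Soc P) := h.core.simple
  exact Cfsg.Agent.H934.OutB.card_out_mul (Soc P) h.core.nonabelian

theorem HB.out_le {P : Subgroup (GL (Fin n) F)} (h : HB q n P) :
    2 ^ Nat.card (Cfsg.Out (Soc P)) ≤ Nat.card (Soc P) ^ 3 := by
  have hs : IsSimpleGroup (Soc P) := h.core.simple
  exact UT.out_le h.core.nonabelian

/-- the criterion with the crude bound for `Out` -/
theorem HB.kill_crude {P : Subgroup (GL (Fin n) F)} (h : HB q n P) {m Q N O : ℕ} (hm : m ≤ n) (hQ : Q ≤ q)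
    (hQ0 : 0 < Q) (hN : Nat.card (Soc P) ≤ N) (hO : N ^ 3 < 2 ^ (O + 1)) (hlt : 6 * (O * N) ^ 2 < Q ^ (m ^ 2 - 3)) :
    False := by
  have h1 : Nat.card (Cfsg.Out (Soc P)) ≤ O := by
    have h2 := (h.out_le.trans (Nat.pow_le_pow_left hN 3)).trans_lt hO
    have h3 := (Nat.pow_lt_pow_iff_right (by norm_num)).1 h2
    omega
  refine h.kill hm hQ hQ0 (N := O * N) ?_ hlt
  rw [← h.card_aut]
  exact Nat.mul_le_mul h1 hN

theorem fact_lt (n : ℕ) (hn : 7 ≤ n) : 6 * ((n + 2).factorial) ^ 2 < 3 ^ (n ^ 2 - 3) := by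
  induction n, hn using Nat.le_induction with
  | base => decide +kernel
  | succ n hn ih =>
    have h1 : (n + 1) ^ 2 - 3 = (n ^ 2 - 3) + (2 * n + 1) := by
      have h2 : 3 ≤ n ^ 2 := by nlinarith
      have h3 : (n + 1) ^ 2 = n ^ 2 + (2 * n + 1) := by ring
      omega
    rw [h1, pow_add, show n + 1 + 2 = (n + 2) + 1 by ring, Nat.factorial_succ]
    have h4 : (n + 2 + 1) ^ 2 ≤ 3 ^ (2 * n + 1) := by
      refine (sq_le_three_pow (n + 2 + 1)).trans ?_
      exact Nat.pow_le_pow_right (by norm_num) (by omega)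
    calc 6 * ((n + 2 + 1) * (n + 2).factorial) ^ 2 = 6 * ((n + 2).factorial) ^ 2 * (n + 2 + 1) ^ 2 := by ring
      _ < 3 ^ (n ^ 2 - 3) * (n + 2 + 1) ^ 2 := Nat.mul_lt_mul_of_pos_right ih (by positivity)
      _ ≤ 3 ^ (n ^ 2 - 3) * 3 ^ (2 * n + 1) := Nat.mul_le_mul_left _ h4

theorem card_alt_le {m N : ℕ} (hm : 2 ≤ m) (hN : m.factorial ≤ 2 * N) : Nat.card (alternatingGroup (Fin m)) ≤ N := by
  have : Nontrivial (Fin m) := Fin.nontrivial_iff_two_le.2 hm
  have h1 := two_mul_card_alternatingGroup (α := Fin m)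
  rw [Fintype.card_perm, Fintype.card_fin] at h1
  rw [Nat.card_eq_fintype_card]
  omega

/-- **Alternating groups.** -/
theorem HB.not_alternating {P : Subgroup (GL (Fin n) F)} (h : HB q n P) : ¬ IsAlternating (Soc P) := by
  rintro ⟨m, hm, ⟨e⟩⟩
  by_cases h8 : m ≤ 8
  · have h1 : Nat.card (Soc P) ≤ 20160 := by
      rw [Nat.card_congr e.toEquiv]
      refine card_alt_le (by omega) ?_
      have h2 : m.factorial ≤ (8).factorial := Nat.factorial_le h8
      have h3 : (8).factorial = 40320 := by decide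
      omega
    exact h.kill_crude h.six h.three (by norm_num) h1 (O := 42) (by norm_num) (by norm_num)
  · obtain ⟨p, hp⟩ := CharP.exists F
    have hpp : Fact p.Prime := ⟨CharP.char_is_prime F p⟩
    have h2 := Cfsg.Agent.S2653.result p n m P ((scalars (Fin n) F).subgroupOf P) ⟨e⟩ (by omega)
    have h3 : m ≤ n + 2 := by
      split_ifs at h2 <;> omega
    have h4 : Nat.card (MulAut (Soc P)) = m.factorial := by
      rw [Nat.card_congr (MulAut.congr e).toEquiv,
        ← Nat.card_congr (Equiv.ofBijective _ (Cfsg.Agent.S2119.result m (by omega) (by omega))),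
        Nat.card_eq_fintype_card, Fintype.card_perm, Fintype.card_fin]
    exact h.kill le_rfl h.three (by norm_num) (h4.le.trans (Nat.factorial_le h3)) (fact_lt n (by omega))

/-- **The Tits group**, `n ≥ 7`. -/
theorem HB.not_tits {P : Subgroup (GL (Fin n) F)} (h : HB q n P) (hn : 7 ≤ n) : ¬ Lie.IsoTits (Soc P) := by
  rintro ⟨e⟩
  have hcard : Nat.card (Soc P) = 17971200 := by
    rw [Nat.card_congr e.toEquiv, Cfsg.Agent.S1074.result.2.2.2]
    norm_num
  exact h.kill_crude hn h.three (by norm_num) hcard.le (O := 72) (by norm_num) (by norm_num)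

end Cfsg.Agent.H985.UT
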