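import Cfsg.Agent.H985.UT.Alt
import Cfsg.Agent.H93.UG.List

/-!
# S2196, parts (B2) and (B3) together (helper985)

`trans_residual_of` : the conclusion, the sporadic groups being excluded by hypothesis.
-/

set_option autoImplicit false
set_option linter.unusedSectionVars false

universe u v

namespace Cfsg.Agent.H985.UT

open Cfsg Cfsg.Geo Matrix Cfsg.Agent.H918 Cfsg.Agent.H915.LD

variable {F : Type u} [Field F] [Fintype F] {n q : ℕ}

theorem trans_residual_of (hspor : ∀ P : Subgroup (GL (Fin n) F), HB q n P → ¬ IsSporadicGroup (Soc P))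
    (hF : Fintype.card F = q ^ 2) (hn : 6 ≤ n) (hq : 3 ≤ q)
    {P K : Subgroup (GL (Fin n) F)} (hK : K < SUg n F q) (hc : IsResidualCore K P)
    (hord : Nat.card (SUg n F q) ≤ 3 * Nat.card K ^ 2) (htr : IsoTrans (q := q) K) : False := by
  obtain ⟨p, hp⟩ := CharP.exists F
  have hpp : Fact p.Prime := ⟨CharP.char_is_prime F p⟩
  by_cases hL : IsLieTypeChar p (Soc P)
  · exact trans_defchar hF hn hK hc htr hL
  have h := HB.of_residual hF hn hq hK.le hc hord htr
  have hs : IsSimpleGroup (Soc P) := h.core.simple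
  have hk : IsKnownSimple' (Soc P) := Cfsg.Agent.S0000.result
  by_cases hn12 : n ≤ 12
  · rcases H936.List12.list₀ hn12 h.core hk hL with (h1 | h1 | h1 | h1) | h1
    · obtain ⟨m, h5, -, -, -, -, he⟩ := h1
      exact h.not_alternating ⟨m, h5, he⟩
    · exact H93.UG.not_cand h hn12 (Or.inl h1)
    · exact H93.UG.not_cand h hn12 (Or.inr (Or.inl h1))
    · exact H93.UG.not_cand h hn12 (Or.inr (Or.inr h1))
    · exact hspor P h h1
  · rcases H912.Known.known_split hk (H912.Known.not_primeCyclic h.core.nonabelian) with h1 | ⟨r, hr, h1⟩ | h1 | h1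
    · exact h.not_alternating h1
    · refine h.lie_big hF (by omega) (hc.le.trans hK.le) hr ?_ h1
      intro hd
      apply hL
      have h2 : r ∣ Fintype.card F := by rw [hF]; exact dvd_pow hd (by norm_num)
      have := H936.List12.charP_of_dvd hr h2
      rwa [CharP.eq F hp this]
    · exact h.not_tits (by omega) h1
    · exact hspor P h h1

end Cfsg.Agent.H985.UT
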