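import Cfsg.Agent.H936.List12
import Cfsg.Agent.H100.Ppd.Basic

/-!
# S2196, part (B2): interface (helper985)

`HB q n P`: `P ≤ GL_n(F)`, `|F| = q²`, a core (`H915.LD.Core`), `n ≥ 6`, `q ≥ 3`, with the bound
`q ^ (n² - 3) ≤ 6 |Aut (Soc P)|²` (from `|SU_n(q)| ≤ 3 |K|²`) and, for `n = 6`, `q = 3`, `61 ∣ |Aut (Soc P)|` (from the
transitivity on the isotropic points). The aim is `¬ HB q n P` if `Soc P` is not of Lie type in the characteristic of `F`.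
-/

set_option autoImplicit false
set_option linter.unusedSectionVars false

universe u v

namespace Cfsg.Agent.H985.UT

open Cfsg Cfsg.Geo Matrix Cfsg.Agent.H915.LD

variable {F : Type u} [Field F] [Finite F] {q n : ℕ}

/-- The data of part (B2) of S2196. -/
structure HB (q n : ℕ) (P : Subgroup (GL (Fin n) F)) : Prop where
  core : Core P
  six : 6 ≤ n
  three : 3 ≤ q
  card : Nat.card F = q ^ 2
  bd : q ^ (n ^ 2 - 3) ≤ 6 * Nat.card (MulAut (Soc P)) ^ 2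
  d61 : n = 6 → q = 3 → 61 ∣ Nat.card (MulAut (Soc P))

namespace HB

variable {P : Subgroup (GL (Fin n) F)} (h : HB q n P)
include h

theorem bd_of_le {m Q : ℕ} (hm : m ≤ n) (hQ : Q ≤ q) (hQ0 : 0 < Q) :
    Q ^ (m ^ 2 - 3) ≤ 6 * Nat.card (MulAut (Soc P)) ^ 2 := by
  refine le_trans (le_trans ?_ (Nat.pow_le_pow_left hQ (n ^ 2 - 3))) h.bd
  exact Nat.pow_le_pow_right hQ0 (Nat.sub_le_sub_right (Nat.pow_le_pow_left hm 2) 3)

/-- **The criterion**: `|Aut S| ≤ N`, `n ≥ m`, `q ≥ Q`, `6 N² < Q ^ (m² - 3)`. -/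
theorem kill {m Q N : ℕ} (hm : m ≤ n) (hQ : Q ≤ q) (hQ0 : 0 < Q) (hN : Nat.card (MulAut (Soc P)) ≤ N)
    (hlt : 6 * N ^ 2 < Q ^ (m ^ 2 - 3)) : False := by
  have h1 := h.bd_of_le hm hQ hQ0
  have h2 : 6 * Nat.card (MulAut (Soc P)) ^ 2 ≤ 6 * N ^ 2 := Nat.mul_le_mul_left _ (Nat.pow_le_pow_left hN 2)
  omega

/-- `n = 6`, `q = 3` -/
theorem kill61 (hn : n = 6) (hq : q = 3) (hN : ¬ 61 ∣ Nat.card (MulAut (Soc P))) : False := hN (h.d61 hn hq)

end HB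

end Cfsg.Agent.H985.UT
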