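import Cfsg.Agent.H985.UT.Ord
import Cfsg.Agent.S2363
import Cfsg.Agent.S0000
import Cfsg.Agent.H934.OutAll

/-!
# S2196, part (B2): groups of Lie type in another characteristic, `n ≥ 13` (helper985)

`|S| < r^(3k)`, `r^k` the `r`-part of `|S|`, and `r^k ≤ q^(2(n-1))`.
-/

set_option autoImplicit false
set_option linter.unusedSectionVars false

universe u v

namespace Cfsg.Agent.H985.UT

open Cfsg Cfsg.Geo Matrix Cfsg.Agent.H918 Cfsg.Agent.LieClassical.HermBasic Cfsg.Agent.H915.LD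
open Cfsg.Agent.H948.UProd (ph)

theorem sq_le_three_pow (m : ℕ) : m ^ 2 ≤ 3 ^ m := by
  induction m with
  | zero => norm_num
  | succ m ih =>
    have h1 : m + 1 ≤ 3 ^ m := Nat.lt_pow_self (by norm_num)
    rw [pow_succ 3 m]
    nlinarith

/-- the numbers -/
theorem num_kill {n q S O : ℕ} (hn : 13 ≤ n) (hq : 3 ≤ q) (hS : S < q ^ (6 * (n - 1))) (hO : 2 ^ O ≤ S ^ 3)
    (h : q ^ (n ^ 2 - 3) ≤ 6 * (O * S) ^ 2) : False := by
  obtain ⟨m, rfl⟩ : ∃ m, n = m + 1 := ⟨n - 1, by omega⟩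
  rw [Nat.add_sub_cancel] at hS
  have hS0 : 0 < S := by
    rw [Nat.pos_iff_ne_zero]
    rintro rfl
    have : 0 < 2 ^ O := by positivity
    simp at hO
  have h1 : O < q * (18 * m) := by
    have h2 : 2 ^ O < 2 ^ (q * (18 * m)) := by
      calc 2 ^ O ≤ S ^ 3 := hO
        _ ≤ (q ^ (6 * m)) ^ 3 := Nat.pow_le_pow_left hS.le 3
        _ = q ^ (18 * m) := by rw [← pow_mul]; ring_nf
        _ < (2 ^ q) ^ (18 * m) := Nat.pow_lt_pow_left Nat.lt_two_pow_self (by omega)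
        _ = 2 ^ (q * (18 * m)) := by rw [← pow_mul]
    exact (Nat.pow_lt_pow_iff_right (by norm_num)).1 h2
  have h3 : 6 * (O * S) ^ 2 ≤ (1944 * m ^ 2) * (q ^ 2 * q ^ (12 * m)) := by
    calc 6 * (O * S) ^ 2 ≤ 6 * ((q * (18 * m)) * q ^ (6 * m)) ^ 2 :=
          Nat.mul_le_mul_left 6 (Nat.pow_le_pow_left (Nat.mul_le_mul h1.le hS.le) 2)
      _ = (1944 * m ^ 2) * (q ^ 2 * (q ^ (6 * m)) ^ 2) := by ring
      _ = (1944 * m ^ 2) * (q ^ 2 * q ^ (12 * m)) := by rw [← pow_mul]; ring_nf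
  have h4 : 1944 * m ^ 2 < q ^ (m + 7) := by
    calc 1944 * m ^ 2 ≤ 1944 * 3 ^ m := Nat.mul_le_mul_left _ (sq_le_three_pow m)
      _ < 3 ^ 7 * 3 ^ m := Nat.mul_lt_mul_of_pos_right (by norm_num) (by positivity)
      _ = 3 ^ (m + 7) := by ring
      _ ≤ q ^ (m + 7) := Nat.pow_le_pow_left hq _
  have h5 : (m + 7) + (2 + 12 * m) ≤ (m + 1) ^ 2 - 3 := by
    have h6 : (m + 7) + (2 + 12 * m) + 3 ≤ (m + 1) ^ 2 := by nlinarith
    omega
  have h7 : q ^ ((m + 7) + (2 + 12 * m)) ≤ q ^ ((m + 1) ^ 2 - 3) := Nat.pow_le_pow_right (by omega) h5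
  have h8 : (1944 * m ^ 2) * (q ^ 2 * q ^ (12 * m)) < q ^ ((m + 7) + (2 + 12 * m)) := by
    rw [pow_add q (m + 7), pow_add q 2]
    exact Nat.mul_lt_mul_of_pos_right h4 (by positivity)
  omega

section

variable {F : Type u} [Field F] [Fintype F] {n q : ℕ}

theorem out_le {T : Type v} [Group T] [Finite T] [IsSimpleGroup T] (hT : ¬ IsMulCommutative T) :
    2 ^ Nat.card (Cfsg.Out T) ≤ Nat.card T ^ 3 := by
  have hne : (⊥ : Subgroup T) ≠ ⊤ := by
    intro h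
    apply hT
    refine ⟨⟨fun a b => ?_⟩⟩
    have ha : a ∈ (⊥ : Subgroup T) := by rw [h]; trivial
    rw [Subgroup.mem_bot.1 ha, one_mul, mul_one]
  have h := Cfsg.Agent.H934.OutAll.bd hT (Cfsg.Agent.S0000.result (G := T)) ⊥ hne
  rwa [Subgroup.index_bot] at h

/-- **`n ≥ 13`, Lie type in another characteristic.** -/
theorem HB.lie_big (hF : Fintype.card F = q ^ 2) {P : Subgroup (GL (Fin n) F)} (h : HB q n P) (hn : 13 ≤ n)
    (hP : P ≤ SUg n F q) {r : ℕ} (hr : r.Prime) (hrq : ¬ r ∣ q) (hL : IsLieTypeChar r (Soc P)) : False := by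
  have := Fact.mk hr
  have hs : IsSimpleGroup (Soc P) := h.core.simple
  have hq := h.three
  have h1 := (Cfsg.Agent.S2363.result r hr hL).1
  set k := (Nat.card (Soc P)).factorization r with hk
  have hdvd : r ^ k ∣ Nat.card (SU n F q) := by
    rw [← card_SUg_eq]
    refine (Nat.ordProj_dvd _ _).trans ?_
    refine (Subgroup.card_quotient_dvd_card _).trans ?_
    exact Subgroup.card_dvd_of_le hP
  rw [Cfsg.Agent.H948.UProd.card_SU hF (by omega)] at hdvd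
  have hcop : Nat.Coprime (r ^ k) (q ^ (n * (n - 1) / 2)) :=
    Nat.Coprime.pow _ _ ((Nat.Prime.coprime_iff_not_dvd hr).2 hrq)
  have h2 := hcop.dvd_of_dvd_mul_left hdvd
  have h3 : k ≤ padicValNat r (∏ i ∈ Finset.range (n - 1), ph q (i + 1)) :=
    (padicValNat_dvd_iff_le (RPart.prod_ne_zero hq (n - 1))).1 h2
  have h4 : r ^ k ≤ q ^ (2 * (n - 1)) :=
    (Nat.pow_le_pow_right hr.pos h3).trans (RPart.rpart_le hr hq hrq (by omega))
  have h5 : Nat.card (Soc P) < q ^ (6 * (n - 1)) := by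
    calc Nat.card (Soc P) < r ^ (3 * k) := h1
      _ = (r ^ k) ^ 3 := by rw [← pow_mul, mul_comm]
      _ ≤ (q ^ (2 * (n - 1))) ^ 3 := Nat.pow_le_pow_left h4 3
      _ = q ^ (6 * (n - 1)) := by rw [← pow_mul]; ring_nf
  refine num_kill hn hq h5 (out_le h.core.nonabelian) ?_
  have h6 := h.bd
  rwa [← Cfsg.Agent.H934.OutB.card_out_mul (Soc P) h.core.nonabelian] at h6

end

end Cfsg.Agent.H985.UT
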