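import Cfsg.Agent.H985.UT.Asm
import Cfsg.Agent.H985.UT.HB
import Cfsg.Agent.H985.UT.RPart

/-!
# S2196, part (B2): the order bound (helper985)

`HB.of_residual` : `K < SU_n(q)` with residual core `P`, `|SU_n(q)| ≤ 3 |K|²`, `K` transitive on the isotropic points
⟹ `HB q n P`.
-/

set_option autoImplicit false
set_option linter.unusedSectionVars false
set_option linter.style.haveILetI false

universe u v

namespace Cfsg.Agent.H985.UT

open Cfsg Cfsg.Geo Matrix Cfsg.Agent.H918 Cfsg.Agent.LieClassical.HermBasic Cfsg.Agent.H915.LD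
open Cfsg.Agent.H948.UProd (ph)

/-! ### The order of `SU_n(q)` from below -/

theorem prod_ge {q : ℕ} (hq : 3 ≤ q) (j : ℕ) :
    (q ^ 2 - 1) * q ^ ((j + 1) * (2 * j + 3) - 3) ≤ ∏ i ∈ Finset.range (2 * j + 1), ph q (i + 1) := by
  induction j with
  | zero =>
    rw [Finset.prod_range_succ, Finset.prod_range_zero]
    simp [ph]
  | succ j ih =>
    have h1 : 2 * (j + 1) + 1 = 2 * j + 1 + 1 + 1 := by ring
    rw [h1, Finset.prod_range_succ, Finset.prod_range_succ]
    have e1 : ph q (2 * j + 1 + 1) = q ^ (2 * j + 3) + 1 := by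
      unfold ph
      rw [if_pos ⟨j + 1, by ring⟩]
    have e2 : ph q (2 * j + 1 + 1 + 1) = q ^ (2 * j + 4) - 1 := by
      unfold ph
      rw [if_neg (by rw [Nat.not_even_iff_odd]; exact ⟨j + 1, by ring⟩)]
    rw [e1, e2]
    have h2 : q ^ (2 * j + 3) * q ^ (2 * j + 4) ≤ (q ^ (2 * j + 3) + 1) * (q ^ (2 * j + 4) - 1) := by
      have h3 : q ^ (2 * j + 4) = q ^ (2 * j + 3) * q := pow_succ _ _
      have h4 : 1 ≤ q ^ (2 * j + 3) := Nat.one_le_pow _ _ (by omega)
      obtain ⟨y, hy⟩ : ∃ y, q ^ (2 * j + 4) = y + 1 := ⟨q ^ (2 * j + 4) - 1, by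
        have : 1 ≤ q ^ (2 * j + 4) := Nat.one_le_pow _ _ (by omega)
        omega⟩
      have h5 : q ^ (2 * j + 3) ≤ y := by nlinarith
      rw [hy, Nat.add_sub_cancel]
      nlinarith
    have h6 : (j + 1 + 1) * (2 * (j + 1) + 3) - 3 = ((j + 1) * (2 * j + 3) - 3) + ((2 * j + 3) + (2 * j + 4)) := by
      have h7 : 3 ≤ (j + 1) * (2 * j + 3) := by nlinarith
      have h8 : (j + 1 + 1) * (2 * (j + 1) + 3) = (j + 1) * (2 * j + 3) + ((2 * j + 3) + (2 * j + 4)) := by ring
      omega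
    rw [h6, pow_add, pow_add, ← mul_assoc, mul_assoc (∏ i ∈ Finset.range (2 * j + 1), ph q (i + 1))]
    exact Nat.mul_le_mul ih h2

theorem card_SU_ge {F : Type*} [Field F] [Fintype F] {q : ℕ} (hF : Fintype.card F = q ^ 2) (hq : 3 ≤ q) {n : ℕ}
    (hn : 2 ≤ n) : (q ^ 2 - 1) * q ^ (n ^ 2 - 3) ≤ Nat.card (SU n F q) := by
  rw [Cfsg.Agent.H948.UProd.card_SU hF (by omega)]
  obtain ⟨j, hj⟩ : ∃ j, n = 2 * j + 2 ∨ n = 2 * j + 3 := ⟨(n - 2) / 2, by omega⟩
  rcases hj with rfl | rfl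
  · have h1 := prod_ge hq j
    have e1 : 2 * j + 2 - 1 = 2 * j + 1 := by omega
    rw [e1]
    have e2 : (2 * j + 2) * (2 * j + 1) / 2 = (j + 1) * (2 * j + 1) := by
      rw [show (2 * j + 2) * (2 * j + 1) = (j + 1) * (2 * j + 1) * 2 by ring, Nat.mul_div_cancel _ (by norm_num)]
    rw [e2]
    have e3 : (2 * j + 2) ^ 2 - 3 = (j + 1) * (2 * j + 1) + ((j + 1) * (2 * j + 3) - 3) := by
      have h7 : 3 ≤ (j + 1) * (2 * j + 3) := by nlinarith
      have h8 : (2 * j + 2) ^ 2 = (j + 1) * (2 * j + 1) + (j + 1) * (2 * j + 3) := by ring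
      omega
    rw [e3, pow_add, mul_left_comm]
    exact Nat.mul_le_mul_left _ h1
  · have h1 := prod_ge hq j
    have e1 : 2 * j + 3 - 1 = 2 * j + 1 + 1 := by omega
    rw [e1, Finset.prod_range_succ]
    have e4 : ph q (2 * j + 1 + 1) = q ^ (2 * j + 3) + 1 := by
      unfold ph
      rw [if_pos ⟨j + 1, by ring⟩]
    rw [e4]
    have e2 : (2 * j + 3) * (2 * j + 1 + 1) / 2 = (j + 1) * (2 * j + 3) := by
      rw [show (2 * j + 3) * (2 * j + 1 + 1) = (j + 1) * (2 * j + 3) * 2 by ring, Nat.mul_div_cancel _ (by norm_num)]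
    rw [e2]
    have e3 : (2 * j + 3) ^ 2 - 3 = (j + 1) * (2 * j + 3) + (((j + 1) * (2 * j + 3) - 3) + (2 * j + 3)) := by
      have h7 : 3 ≤ (j + 1) * (2 * j + 3) := by nlinarith
      have h8 : (2 * j + 3) ^ 2 = (j + 1) * (2 * j + 3) + ((j + 1) * (2 * j + 3) + (2 * j + 3)) := by ring
      omega
    rw [e3, pow_add, pow_add, mul_left_comm]
    refine Nat.mul_le_mul_left _ ?_
    rw [← mul_assoc]
    exact Nat.mul_le_mul h1 (by omega)

section

variable {F : Type u} [Field F] [Fintype F] {n q : ℕ} (hF : Fintype.card F = q ^ 2)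

theorem card_SUg_eq : Nat.card (SUg n F q) = Nat.card (SU n F q) := by
  rw [← range_suHom]
  exact (Nat.card_congr (MonoidHom.ofInjective (suHom_injective (F := F) (n := n) (q := q))).toEquiv).symm

include hF

/-- the scalars of `SU_n(q)` -/
theorem pow_eq_one_of_scalar {g : GL (Fin n) F} (hn : 0 < n) (hg : g ∈ SUg n F q) {c : Fˣ}
    (hc : (g : Matrix (Fin n) (Fin n) F) = (c : F) • 1) : c ^ (q + 1) = 1 := by
  obtain ⟨v, hv⟩ : ∃ v : Fin n → F, v ≠ 0 := ⟨fun _ => 1, fun h => by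
    have := congrFun h ⟨0, hn⟩
    simp at this⟩
  obtain ⟨w, hw⟩ := exists_herm_ne_zero hF hv
  have h1 := (mem_SUg.1 hg).1 v w
  rw [hc, Matrix.smul_mulVec, Matrix.smul_mulVec, Matrix.one_mulVec, Matrix.one_mulVec, herm_smul_left,
    herm_smul_right, ← mul_assoc] at h1
  have h2 := mul_right_cancel₀ hw (h1.trans (one_mul _).symm)
  apply Units.ext
  rw [Units.val_pow_eq_pow_val, pow_succ', Units.val_one]
  exact h2

/-- the action of `K` on `Soc P` -/
theorem card_le_aut {P K : Subgroup (GL (Fin n) F)} (hn : 0 < n) (hK : K ≤ SUg n F q) (hc : IsResidualCore K P) :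
    ∃ a b, a ≤ q + 1 ∧ 0 < a ∧ b ∣ Nat.card (MulAut (Soc P)) ∧ Nat.card K = a * b := by
  have hC := core_of_residual hc
  have hN : K ≤ Subgroup.normalizer (P : Set (GL (Fin n) F)) := fun g hg => H100.Ppd.mem_normalizer (hc.normal g hg)
  let f : K →* MulAut (Soc P) := (H100.Ppd.conjSoc hC.absIrred).comp (Subgroup.inclusion hN)
  have hfin : Finite (MulAut (Soc P)) := inferInstance
  refine ⟨Nat.card f.ker, Nat.card f.range, ?_, Nat.card_pos, Subgroup.card_subgroup_dvd_card _, ?_⟩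
  · have hex : ∀ x : f.ker, ∃ c : Fˣ, ((x : K) : GL (Fin n) F).1 = (c : F) • (1 : Matrix (Fin n) (Fin n) F) := by
      intro x
      have h1 : (((x : K) : GL (Fin n) F)) ∈ scalars (Fin n) F := H100.Ppd.scalar_of_conjSoc hC (g := Subgroup.inclusion hN x) x.2
      obtain ⟨c, hcc⟩ := (mem_scalars_iff _).1 h1
      exact ⟨c, hcc⟩
    choose c hcc using hex
    have : NeZero (q + 1) := ⟨by omega⟩
    have hroot : ∀ x : f.ker, c x ∈ rootsOfUnity (q + 1) F := by
      intro x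
      rw [mem_rootsOfUnity]
      exact pow_eq_one_of_scalar hF hn (hK (x : K).2) (hcc x)
    have hinj : Function.Injective (fun x : f.ker => (⟨c x, hroot x⟩ : rootsOfUnity (q + 1) F)) := by
      intro x y hxy
      have h1 : c x = c y := congrArg Subtype.val hxy
      apply Subtype.ext
      apply Subtype.ext
      apply Units.ext
      rw [hcc, hcc, h1]
    have h1 := Nat.card_le_card_of_injective _ hinj
    exact h1.trans (card_rootsOfUnity F (q + 1))
  · rw [← Subgroup.index_ker, mul_comm]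
    exact (Subgroup.index_mul_card _).symm

theorem isoNum_dvd {K : Subgroup (GL (Fin n) F)} (hn : 2 ≤ n) (hK : K ≤ SUg n F q) (htr : IsoTrans (q := q) K) :
    H950.isoNum q n ∣ Nat.card K * (q ^ 2 - 1) := by
  classical
  have hq2 := two_le hF
  let X := {β : Fin n → F // hermForm n F q β β = 0 ∧ β ≠ 0}
  letI : MulAction (K × Fˣ) X :=
    { smul := fun g x => ⟨(g.2 : F) • ((g.1 : GL (Fin n) F).1 *ᵥ x.1), by
        rw [herm_smul_left, herm_smul_right, (mem_SUg.1 (hK g.1.2)).1, x.2.1, mul_zero, mul_zero], by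
        rw [smul_ne_zero_iff]
        exact ⟨g.2.ne_zero, mulVec_ne_zero x.2.2⟩⟩
      one_smul := fun x => Subtype.ext (by
        change ((1 : Fˣ) : F) • ((1 : Matrix (Fin n) (Fin n) F) *ᵥ x.1) = x.1
        rw [Matrix.one_mulVec, Units.val_one, one_smul])
      mul_smul := fun g h x => Subtype.ext (by
        change ((g.2 * h.2 : Fˣ) : F) • (((g.1 : GL (Fin n) F).1 * (h.1 : GL (Fin n) F).1) *ᵥ x.1) =
          (g.2 : F) • ((g.1 : GL (Fin n) F).1 *ᵥ ((h.2 : F) • ((h.1 : GL (Fin n) F).1 *ᵥ x.1)))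
        rw [Matrix.mulVec_smul, Matrix.mulVec_mulVec, smul_smul, Units.val_mul]) }
  have hX : Nat.card X = H950.isoNum q n := H950.card_iso_ne_zero hF n
  have hpos : 0 < Nat.card X := by
    rw [hX]
    unfold H950.isoNum
    have h1 : 1 < q ^ n := Nat.one_lt_pow (by omega) hq2
    have h2 : 1 < q ^ (n - 1) := Nat.one_lt_pow (by omega) hq2
    split_ifs <;> exact Nat.mul_pos (by omega) (by omega)
  obtain ⟨x⟩ : Nonempty X := (Nat.card_pos_iff.1 hpos).1
  have htrans : MulAction.orbit (K × Fˣ) x = Set.univ := by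
    rw [Set.eq_univ_iff_forall]
    intro y
    obtain ⟨g, hg, c, hc⟩ := htr x.1 y.1 x.2.2 x.2.1 y.2.2 y.2.1
    have hc0 : c ≠ 0 := by
      rintro rfl
      rw [zero_smul] at hc
      exact mulVec_ne_zero x.2.2 hc
    refine ⟨(⟨g, hg⟩, (Units.mk0 c hc0)⁻¹), Subtype.ext ?_⟩
    change (((Units.mk0 c hc0)⁻¹ : Fˣ) : F) • ((g : GL (Fin n) F).1 *ᵥ x.1) = y.1
    rw [hc, smul_smul, Units.val_inv_eq_inv_val, Units.val_mk0, inv_mul_cancel₀ hc0, one_smul]
  have h1 := MulAction.index_stabilizer (K × Fˣ) x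
  rw [htrans, Set.ncard_univ, hX] at h1
  rw [← h1]
  refine (Subgroup.index_dvd_card _).trans ?_
  rw [Nat.card_prod, Nat.card_units, Nat.card_eq_fintype_card (α := F), hF]

/-- **The data of part (B2).** -/
theorem HB.of_residual {P K : Subgroup (GL (Fin n) F)} (hn : 6 ≤ n) (hq : 3 ≤ q) (hK : K ≤ SUg n F q)
    (hc : IsResidualCore K P) (hord : Nat.card (SUg n F q) ≤ 3 * Nat.card K ^ 2) (htr : IsoTrans (q := q) K) :
    HB q n P := by
  have hC := core_of_residual hc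
  have hfin : Finite (MulAut (Soc P)) := inferInstance
  have hN0 : 0 < Nat.card (MulAut (Soc P)) := Nat.card_pos
  obtain ⟨a, b, ha, ha0, hb, hab⟩ := card_le_aut hF (by omega) hK hc
  refine ⟨hC, hn, hq, by rw [Nat.card_eq_fintype_card, hF], ?_, ?_⟩
  · have h1 := card_SU_ge hF hq (n := n) (by omega)
    rw [card_SUg_eq, hab] at hord
    have hb' : b ≤ Nat.card (MulAut (Soc P)) := Nat.le_of_dvd hN0 hb
    set N := Nat.card (MulAut (Soc P))
    set Y := q ^ (n ^ 2 - 3)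
    have h2 : (q ^ 2 - 1) * Y ≤ 3 * ((q + 1) * N) ^ 2 :=
      (h1.trans hord).trans (Nat.mul_le_mul_left 3 (Nat.pow_le_pow_left (Nat.mul_le_mul ha hb') 2))
    obtain ⟨t, rfl⟩ : ∃ t, q = t + 1 := ⟨q - 1, by omega⟩
    have h3 : (t + 1) ^ 2 - 1 = t * (t + 2) := by
      have : (t + 1) ^ 2 = t * (t + 2) + 1 := by ring
      omega
    rw [h3] at h2
    have h4 : (t + 2) * (t * Y) ≤ (t + 2) * (3 * (t + 2) * N ^ 2) := by
      calc (t + 2) * (t * Y) = t * (t + 2) * Y := by ring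
        _ ≤ 3 * ((t + 1 + 1) * N) ^ 2 := h2
        _ = (t + 2) * (3 * (t + 2) * N ^ 2) := by ring
    have h5 : t * Y ≤ 3 * (t + 2) * N ^ 2 := Nat.le_of_mul_le_mul_left h4 (by omega)
    have h6 : t * Y ≤ t * (6 * N ^ 2) := by
      refine h5.trans ?_
      have h7 : 3 * (t + 2) ≤ t * 6 := by omega
      calc 3 * (t + 2) * N ^ 2 ≤ t * 6 * N ^ 2 := Nat.mul_le_mul_right _ h7
        _ = t * (6 * N ^ 2) := by ring
    exact Nat.le_of_mul_le_mul_left h6 (by omega)
  · rintro rfl rfl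
    have h1 := isoNum_dvd hF (by norm_num) hK htr
    have h2 : 61 ∣ H950.isoNum 3 6 := by decide
    have h3 := h2.trans h1
    have h61 : Nat.Prime 61 := by norm_num
    rcases h61.dvd_mul.1 h3 with h4 | h4
    · rw [hab] at h4
      rcases h61.dvd_mul.1 h4 with h5 | h5
      · have := Nat.le_of_dvd ha0 h5
        omega
      · exact h5.trans hb
    · norm_num at h4

end

end Cfsg.Agent.H985.UT
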